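import Groth.Agent.S0389
import Mathlib.RingTheory.TensorProduct.Pi
import Mathlib.RingTheory.Flat.Basic
import Mathlib.RingTheory.FiniteStability
import Mathlib.LinearAlgebra.TensorProduct.RightExactness

/-!
Schematic density on the fibres near the generic one: the algebra.
-/

set_option autoImplicit false
universe u

set_option backward.isDefEq.respectTransparency false

open TensorProduct

namespace Groth.Agent.StdFib4

/-- No nonzero element is killed by the family. -/
def Inj {ι : Type*} (R : Type u) [CommRing R] (g : ι → R) : Prop := ∀ x : R, (∀ i, g i * x = 0) → x = 0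

theorem Inj.of_injective {ι : Type*} {R R' : Type u} [CommRing R] [CommRing R'] (f : R' →+* R)
    (hf : Function.Injective f) {g : ι → R'} (h : Inj R fun i => f (g i)) : Inj R' g := fun x hx =>
  hf ((h (f x) fun i => by rw [← map_mul, hx i, map_zero]).trans (map_zero f).symm)

section
variable {A : Type u} [CommRing A] [IsDomain A] {S : Type u} [CommRing S] [Algebra A S]
  [Algebra.FiniteType A S] {m : ℕ}

/-- Generic freeness spreads the condition. -/
theorem exists_spread_domain (g : Fin m → S) (K₀ : Type u) [Field K₀] [Algebra A K₀]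
    (hK₀ : Function.Injective (algebraMap A K₀)) (hη : Inj (K₀ ⊗[A] S) fun i => (1 : K₀) ⊗ₜ[A] g i) :
    ∃ h : A, h ≠ 0 ∧ ∀ (K : Type u) [Field K] [Algebra A K], algebraMap A K h ≠ 0 →
      Inj (K ⊗[A] S) fun i => (1 : K) ⊗ₜ[A] g i := by
  classical
  let φ : S →ₗ[S] (Fin m → S) := LinearMap.pi fun i => LinearMap.toSpanSingleton S S (g i)
  let C := (Fin m → S) ⧸ LinearMap.range φ
  obtain ⟨h, hh, hC, hS, -, -⟩ := S0389.result (R := A) (S := S) (M := C)
  refine ⟨h, hh, fun K _ _ hK => ?_⟩
  let L := Localization.Away h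
  let Φ := (φ.restrictScalars A).baseChange L
  let q := ((LinearMap.range φ).mkQ.restrictScalars A).baseChange L
  have hex : Function.Exact Φ q := by
    have h1 : Function.Exact (φ.restrictScalars A) ((LinearMap.range φ).mkQ.restrictScalars A) := by
      simp only [LinearMap.coe_restrictScalars]
      exact LinearMap.exact_map_mkQ_range φ
    exact lTensor_exact L h1 (Submodule.mkQ_surjective (LinearMap.range φ))
  have hq : Function.Surjective q := LinearMap.lTensor_surjective L (Submodule.mkQ_surjective (LinearMap.range φ))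
  haveI : Module.Free L (L ⊗[A] C) := hC
  haveI : Module.Free L (L ⊗[A] S) := hS
  let sgl : ∀ _ : Fin m, S →ₗ[A] (Fin m → S) := fun i => LinearMap.single A (fun _ => S) i
  have hΦ : ∀ x, Φ x = ∑ i, (sgl i).baseChange L (((1 : L) ⊗ₜ[A] g i) * x) := by
    intro x
    induction x using TensorProduct.induction_on with
    | zero => simp
    | add a b ha hb => simp only [mul_add, map_add, Finset.sum_add_distrib, ha, hb]
    | tmul l s =>
      have e : φ s = ∑ i, sgl i (g i * s) := by
        funext j
        simp [φ, sgl, Finset.sum_apply, Pi.single_apply, mul_comm]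
      simp only [Φ, LinearMap.baseChange_tmul, LinearMap.coe_restrictScalars, Algebra.TensorProduct.tmul_mul_tmul,
        one_mul, e, tmul_sum]
  -- the map into the generic fibre is injective
  have hu0 : IsUnit (algebraMap A K₀ h) := isUnit_iff_ne_zero.2 fun e => hh (hK₀ (e.trans (map_zero _).symm))
  letI : Algebra L K₀ := (IsLocalization.Away.lift h hu0).toAlgebra
  haveI : IsScalarTower A L K₀ := IsScalarTower.of_algebraMap_eq fun a => (IsLocalization.Away.lift_eq h hu0 a).symm
  have hinjL : Function.Injective (algebraMap L K₀) := by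
    rw [injective_iff_map_eq_zero]
    intro l hl
    obtain ⟨⟨a, s⟩, hs⟩ := IsLocalization.surj (Submonoid.powers h) l
    have := congrArg (algebraMap L K₀) hs
    rw [map_mul, hl, zero_mul, ← IsScalarTower.algebraMap_apply] at this
    have ha : a = 0 := hK₀ (this.symm.trans (map_zero _).symm)
    subst ha
    rw [map_zero] at hs
    exact (IsLocalization.map_units L s).mul_left_eq_zero.1 hs
  let c₀ := AlgebraTensorModule.cancelBaseChange A L L K₀ S
  let t : L ⊗[A] S →ₐ[A] K₀ ⊗[A] S :=
    Algebra.TensorProduct.map (IsScalarTower.toAlgHom A L K₀) (AlgHom.id A S)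
  have ht : ∀ x, t x = c₀ ((1 : K₀) ⊗ₜ[L] x) := by
    intro x
    induction x using TensorProduct.induction_on with
    | zero => simp
    | add a b ha hb => simp only [tmul_add, map_add, ha, hb]
    | tmul l s => simp [t, c₀, Algebra.smul_def]
  have htinj : Function.Injective t := by
    have h1 : Function.Injective fun x : L ⊗[A] S => (1 : K₀) ⊗ₜ[L] x := by
      have h2 := Module.Flat.rTensor_preserves_injective_linearMap (M := L ⊗[A] S) (Algebra.linearMap L K₀) hinjL
      intro a b hab
      apply (TensorProduct.lid L (L ⊗[A] S)).symm.injective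
      apply h2
      simpa using hab
    intro a b hab
    rw [ht, ht] at hab
    exact h1 (c₀.injective hab)
  have hΦinj : Function.Injective Φ := by
    rw [injective_iff_map_eq_zero]
    intro x hx
    refine htinj (((hη (t x) fun i => ?_)).trans (map_zero t).symm)
    rw [hΦ] at hx
    have h3 := congrArg ((LinearMap.proj i : (Fin m → S) →ₗ[A] S).baseChange L) hx
    rw [map_sum, map_zero, Finset.sum_eq_single i] at h3
    · rw [← LinearMap.comp_apply, ← LinearMap.baseChange_comp, show (LinearMap.proj i).comp (sgl i) = LinearMap.id from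
        LinearMap.proj_comp_single_same _ _ i, LinearMap.baseChange_id, LinearMap.id_apply] at h3
      have h4 := congrArg t h3
      rw [map_mul, map_zero] at h4
      simpa [t] using h4
    · intro j _ hj
      rw [← LinearMap.comp_apply, ← LinearMap.baseChange_comp, show (LinearMap.proj i).comp (sgl j) = 0 from
        LinearMap.proj_comp_single_ne _ _ i j hj.symm, LinearMap.baseChange_zero, LinearMap.zero_apply]
    · exact fun h => absurd (Finset.mem_univ i) h
  obtain ⟨r, hr⟩ : ∃ r, r ∘ₗ Φ = LinearMap.id := by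
    obtain ⟨s, hs⟩ := Module.projective_lifting_property q LinearMap.id hq
    have h01 := (hex.split_tfae hΦinj hq).out 0 1 rfl rfl
    exact h01.1 ⟨s, hs⟩
  let R : ∀ _ : Fin m, L ⊗[A] S →ₗ[L] L ⊗[A] S := fun i => r ∘ₗ (sgl i).baseChange L
  have hR : ∀ x, x = ∑ i, R i (((1 : L) ⊗ₜ[A] g i) * x) := fun x => by
    conv_lhs => rw [← LinearMap.id_apply (R := L) x, ← hr, LinearMap.comp_apply, hΦ, map_sum]
    rfl
  -- base change to the field
  have hu : IsUnit (algebraMap A K h) := isUnit_iff_ne_zero.2 hK
  letI : Algebra L K := (IsLocalization.Away.lift h hu).toAlgebra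
  haveI : IsScalarTower A L K := IsScalarTower.of_algebraMap_eq fun a => (IsLocalization.Away.lift_eq h hu a).symm
  let c := AlgebraTensorModule.cancelBaseChange A L L K S
  have key : ∀ z : K ⊗[L] (L ⊗[A] S),
      z = ∑ i, (R i).baseChange K (c.symm (((1 : K) ⊗ₜ[A] g i) * c z)) := by
    intro z
    induction z using TensorProduct.induction_on with
    | zero => simp
    | add a b ha hb =>
      simp only [map_add, mul_add, Finset.sum_add_distrib]
      rw [← ha, ← hb]
    | tmul k x =>
      have : ∀ i, c.symm (((1 : K) ⊗ₜ[A] g i) * c (k ⊗ₜ[L] x)) = k ⊗ₜ[L] (((1 : L) ⊗ₜ[A] g i) * x) := fun i => by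
        apply c.injective
        rw [LinearEquiv.apply_symm_apply]
        induction x using TensorProduct.induction_on with
        | zero => simp
        | add a b ha hb => simp only [tmul_add, map_add, mul_add, ha, hb]
        | tmul l s => simp [c, Algebra.TensorProduct.tmul_mul_tmul, TensorProduct.smul_tmul']
      simp only [this, LinearMap.baseChange_tmul, ← tmul_sum, ← hR]
  intro y hy
  apply c.symm.injective
  rw [map_zero, key (c.symm y)]
  exact Finset.sum_eq_zero fun i _ => by rw [LinearEquiv.apply_symm_apply, hy i, map_zero, map_zero]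

end

/-- The same over a prime. -/
theorem exists_spread {A : Type u} [CommRing A] {B : Type u} [CommRing B] [Algebra A B] [Algebra.FiniteType A B]
    (q : Ideal A) [q.IsPrime] {m : ℕ} (g : Fin m → B) (K₀ : Type u) [Field K₀] [Algebra A K₀]
    (hker : RingHom.ker (algebraMap A K₀) = q) (hη : Inj (B ⊗[A] K₀) fun i => g i ⊗ₜ[A] (1 : K₀)) :
    ∃ h : A, h ∉ q ∧ ∀ (K : Type u) [Field K] [Algebra A K], q ≤ RingHom.ker (algebraMap A K) →
      algebraMap A K h ≠ 0 → Inj (B ⊗[A] K) fun i => g i ⊗ₜ[A] (1 : K) := by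
  let Q := A ⧸ q
  haveI : Algebra.FiniteType Q (Q ⊗[A] B) := inferInstance
  have conv : ∀ (K : Type u) [Field K] [Algebra A K] [Algebra Q K] [IsScalarTower A Q K],
      Inj (B ⊗[A] K) (fun i => g i ⊗ₜ[A] (1 : K)) ↔
        Inj (K ⊗[Q] (Q ⊗[A] B)) fun i => (1 : K) ⊗ₜ[Q] ((1 : Q) ⊗ₜ[A] g i) := by
    intro K _ _ _ _
    let a₁ := Algebra.TensorProduct.cancelBaseChange A Q Q K B
    let a₂ := Algebra.TensorProduct.comm A K B
    let e : K ⊗[Q] (Q ⊗[A] B) →+* B ⊗[A] K := a₂.toAlgHom.toRingHom.comp a₁.toAlgHom.toRingHom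
    let e' : B ⊗[A] K →+* K ⊗[Q] (Q ⊗[A] B) := a₁.symm.toAlgHom.toRingHom.comp a₂.symm.toAlgHom.toRingHom
    have he : ∀ i, e ((1 : K) ⊗ₜ[Q] ((1 : Q) ⊗ₜ[A] g i)) = g i ⊗ₜ[A] (1 : K) := fun i => by
      show a₂ (a₁ _) = _
      simp [a₁, a₂]
    have he' : ∀ i, e' (g i ⊗ₜ[A] (1 : K)) = (1 : K) ⊗ₜ[Q] ((1 : Q) ⊗ₜ[A] g i) := fun i => by
      rw [← he i]
      show a₁.symm (a₂.symm (a₂ (a₁ _))) = _
      simp
    constructor
    · intro h
      refine Inj.of_injective e (a₂.injective.comp a₁.injective) ?_
      simpa only [he] using h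
    · intro h
      have hinj : Function.Injective e' := fun x y hxy => a₂.symm.injective (a₁.symm.injective hxy)
      refine @Inj.of_injective (Fin m) (K ⊗[Q] (Q ⊗[A] B)) (B ⊗[A] K) _ _ e' hinj (fun i => g i ⊗ₜ[A] (1 : K)) ?_
      simpa only [he'] using h
  letI : Algebra Q K₀ := (Ideal.Quotient.lift q (algebraMap A K₀) fun a ha => hker.ge ha).toAlgebra
  haveI : IsScalarTower A Q K₀ := IsScalarTower.of_algebraMap_eq fun a => rfl
  have hinj : Function.Injective (algebraMap Q K₀) :=
    RingHom.lift_injective_of_ker_le_ideal _ _ hker.le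
  obtain ⟨hb, hb0, hspread⟩ := exists_spread_domain (fun i => (1 : Q) ⊗ₜ[A] g i) K₀ hinj ((conv K₀).1 hη)
  obtain ⟨h, rfl⟩ := Ideal.Quotient.mk_surjective hb
  refine ⟨h, fun hh => hb0 (Ideal.Quotient.eq_zero_iff_mem.2 hh), fun K _ _ hle hK => ?_⟩
  letI : Algebra Q K := (Ideal.Quotient.lift q (algebraMap A K) fun a ha => hle ha).toAlgebra
  haveI : IsScalarTower A Q K := IsScalarTower.of_algebraMap_eq fun a => rfl
  exact (conv K).2 (hspread K hK)

end Groth.Agent.StdFib4
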