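import Groth.Agent.Lib.StdFib4.Alg
import Groth.Agent.Lib.SchDom.Glue
import Groth.Agent.Lib.SchDom.FibrePoint
import Groth.Agent.Lib.FinLocExt4.Ranks
import Groth.Agent.Lib.EffCartier.Dense
import Mathlib.AlgebraicGeometry.Fiber

/-!
Schematic density on the fibres near the generic one.
-/

set_option autoImplicit false
universe u

set_option backward.isDefEq.respectTransparency false
set_option backward.isDefEq.respectTransparency.types false

open CategoryTheory CategoryTheory.Limits AlgebraicGeometry TopologicalSpace TensorProduct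

namespace Groth.Agent.StdFib4

/-- Schematic density is local on a cover by open immersions. -/
theorem std_of_cover {Z : Scheme.{u}} (U : Z.Opens)
    (h : ∀ z : Z, ∃ (R : CommRingCat.{u}) (j : Spec R ⟶ Z) (_ : IsOpenImmersion j),
      z ∈ Set.range j ∧ IsSchemeTheoreticallyDominant (j ⁻¹ᵁ U).ι) : IsSchemeTheoreticallyDominant U.ι := by
  refine ⟨EffCartier.eq_of_forall_exists fun z => ?_⟩
  obtain ⟨_, ⟨W, hW, rfl⟩, hzW, -⟩ := Z.isBasis_affineOpens.exists_subset_of_mem_open (Set.mem_univ z) isOpen_univ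
  refine ⟨⟨W, hW⟩, hzW, ?_⟩
  rw [Scheme.IdealSheafData.ideal_bot, Pi.bot_apply]
  refine FinLocExt4.ideal_eq_bot (𝟙 Z) U.ι.ker ⟨W, hW⟩ fun x _ => ?_
  obtain ⟨R, j, hj, hx, hstd⟩ := h x
  refine ⟨j.opensRange, hx, ?_⟩
  rw [Category.comp_id, ← Scheme.Hom.isoOpensRange_inv_comp j, Scheme.IdealSheafData.comap_comp]
  have h1 : U.ι.ker.comap j = ⊥ := by
    have h2 : U.ι.ker ≤ ((j ⁻¹ᵁ U).ι ≫ j).ker := by
      rw [← morphismRestrict_ι j U]
      exact Scheme.Hom.le_ker_comp _ _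
    rw [Scheme.Hom.ker_comp, Scheme.IdealSheafData.le_map_iff_comap_le, hstd.ker_eq_bot] at h2
    exact le_bot_iff.1 h2
  rw [h1, Scheme.IdealSheafData.comap_bot]

theorem res_res {Z : Scheme.{u}} {U V W : Z.Opens} (h : W ≤ U) (h' : W ≤ V) (h'' : V ≤ U) (a : Γ(Z, U)) :
    Z.presheaf.map (homOfLE h').op (Z.presheaf.map (homOfLE h'').op a) = Z.presheaf.map (homOfLE h).op a := by
  rw [← CommRingCat.comp_apply, ← Functor.map_comp]
  rfl

theorem std_spec {R : CommRingCat.{u}} (O : (Spec R).Opens) {m : ℕ} (g : Fin m → R)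
    (hle : ∀ i, PrimeSpectrum.basicOpen (g i) ≤ O) (hinj : Inj R g) : IsSchemeTheoreticallyDominant O.ι := by
  refine ⟨Scheme.IdealSheafData.ext_of_isAffine ?_⟩
  rw [Scheme.IdealSheafData.ideal_bot, Pi.bot_apply, eq_bot_iff]
  intro a ha
  have ha' : O.ι.app ⊤ a = 0 := Scheme.IdealSheafData.ideal_ofIdeals_le _ _ ha
  rw [Submodule.mem_bot]
  apply (Scheme.ΓSpecIso R).commRingCatIsoToRingEquiv.injective
  rw [map_zero]
  set a' := (Scheme.ΓSpecIso R).hom a
  show a' = 0
  have key : ∀ i, ∃ N : ℕ, g i ^ N * a' = 0 := by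
    intro i
    let G := (Scheme.ΓSpecIso R).inv (g i)
    have hD : (Spec R).basicOpen G = PrimeSpectrum.basicOpen (g i) := basicOpen_eq_of_affine (g i)
    have hle' : (Spec R).basicOpen G ≤ O.ι ''ᵁ (O.ι ⁻¹ᵁ ⊤) := by
      rw [Scheme.Hom.image_preimage_eq_opensRange_inf, Scheme.Opens.opensRange_ι, inf_top_eq, hD]
      exact hle i
    have h0 : (Spec R).presheaf.map (homOfLE ((Spec R).basicOpen_le G)).op a = 0 := by
      rw [Scheme.Opens.ι_app] at ha'
      have := congrArg ((Spec R).presheaf.map (homOfLE hle').op) ha'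
      rw [map_zero] at this
      exact (res_res ((Spec R).basicOpen_le G) hle' le_top a).symm.trans this
    haveI := (isAffineOpen_top (Spec R)).isLocalization_basicOpen G
    obtain ⟨⟨_, N, rfl⟩, hN⟩ :=
      (IsLocalization.map_eq_zero_iff (Submonoid.powers G) Γ(Spec R, (Spec R).basicOpen G) a).1 h0
    refine ⟨N, ?_⟩
    have := congrArg (Scheme.ΓSpecIso R).hom hN
    simpa [G, a'] using this
  choose N hN using key
  have hind : ∀ (k : ℕ) (b : R) (e : Fin m → ℕ), (∑ i, e i) = k → (∀ i, g i ^ e i * b = 0) → b = 0 := by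
    intro k
    induction k using Nat.strong_induction_on with
    | _ k ih =>
      intro b e hk hb
      by_cases h0 : ∃ i, 1 < e i
      · obtain ⟨i, hi⟩ := h0
        have hgb : g i ^ (e i - 1) * b = 0 := hinj _ fun j => by
          refine ih _ ?_ (g j * (g i ^ (e i - 1) * b)) (Function.update e i 1) rfl fun l => ?_
          · rw [← hk]
            exact Finset.sum_lt_sum (fun l _ => by
              by_cases h : l = i
              · subst h; simp; omega
              · simp [Function.update_of_ne h]) ⟨i, Finset.mem_univ i, by simpa using hi⟩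
          · by_cases h : l = i
            · subst h
              rw [Function.update_self, pow_one, show g l * (g j * (g l ^ (e l - 1) * b)) = g j * (g l ^ (e l - 1 + 1) * b) by ring,
                show e l - 1 + 1 = e l by omega, hb l, mul_zero]
            · rw [Function.update_of_ne h, show g l ^ e l * (g j * (g i ^ (e i - 1) * b)) = g j * g i ^ (e i - 1) * (g l ^ e l * b) by ring,
                hb l, mul_zero]
        refine ih _ ?_ b (Function.update e i (e i - 1)) rfl fun l => ?_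
        · rw [← hk]
          exact Finset.sum_lt_sum (fun l _ => by
            by_cases h : l = i
            · subst h; simp
            · simp [Function.update_of_ne h]) ⟨i, Finset.mem_univ i, by simp; omega⟩
        · by_cases h : l = i
          · subst h; simpa using hgb
          · simpa [Function.update_of_ne h] using hb l
      · push Not at h0
        exact hinj b fun i => by
          obtain hi | hi := Nat.le_one_iff_eq_zero_or_eq_one.1 (h0 i)
          · have := hb i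
            rw [hi, pow_zero, one_mul] at this
            rw [this, mul_zero]
          · simpa [hi] using hb i
  exact hind _ a' N rfl hN

theorem inj_spec {R : CommRingCat.{u}} (O : (Spec R).Opens) {m : ℕ} (g : Fin m → R)
    [IsSchemeTheoreticallyDominant O.ι] [QuasiCompact O.ι] (hcov : O ≤ ⨆ i, PrimeSpectrum.basicOpen (g i)) :
    Inj R g := by
  intro a ha
  apply (Scheme.ΓSpecIso R).commRingCatIsoToRingEquiv.symm.injective
  rw [map_zero]
  refine O.ι.app_injective ⊤ ?_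
  rw [map_zero]
  rw [Scheme.Opens.ι_app]
  let A := (Scheme.ΓSpecIso R).inv a
  refine (Spec R).sheaf.eq_of_locally_eq' (fun i => O.ι ''ᵁ (O.ι ⁻¹ᵁ ⊤) ⊓ (Spec R).basicOpen ((Scheme.ΓSpecIso R).inv (g i)))
    _ (fun i => homOfLE inf_le_left) ?_ _ 0 fun i => ?_
  · intro z hz
    have hzO : z ∈ O := by obtain ⟨w, -, rfl⟩ := hz; exact w.2
    obtain ⟨i, hi⟩ := Opens.mem_iSup.1 (hcov hzO)
    exact Opens.mem_iSup.2 ⟨i, hz, by rw [basicOpen_eq_of_affine]; exact hi⟩
  · rw [map_zero]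
    set D := (Spec R).basicOpen ((Scheme.ΓSpecIso R).inv (g i))
    have h1 : (Spec R).presheaf.map (homOfLE (show D ≤ ⊤ from le_top)).op A = 0 := by
      have hu := RingedSpace.isUnit_res_basicOpen _ ((Scheme.ΓSpecIso R).inv (g i))
      refine hu.mul_right_eq_zero.1 ?_
      show (Spec R).presheaf.map _ ((Scheme.ΓSpecIso R).inv (g i)) * (Spec R).presheaf.map _ A = 0
      rw [Subsingleton.elim (homOfLE (show D ≤ ⊤ from le_top)) (homOfLE ((Spec R).basicOpen_le _)), ← map_mul,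
        ← map_mul, ha i, map_zero, map_zero]
    show (Spec R).presheaf.map _ ((Spec R).presheaf.map _ A) = 0
    rw [← CommRingCat.comp_apply, ← Functor.map_comp]
    have := congrArg ((Spec R).presheaf.map (homOfLE (inf_le_right (a := O.ι ''ᵁ (O.ι ⁻¹ᵁ ⊤)) (b := D))).op) h1
    rw [map_zero, ← CommRingCat.comp_apply, ← Functor.map_comp] at this
    exact this

variable {X Y : Scheme.{u}} (f : X ⟶ Y) (U : X.Opens)

/-- The affine step. -/
theorem exists_chart_spread [IrreducibleSpace Y] [LocallyOfFiniteType f]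
    (hdom : IsSchemeTheoreticallyDominant (f.fiberι (genericPoint Y) ⁻¹ᵁ U).ι)
    {V₀ : Y.Opens} (hV₀ : IsAffineOpen V₀) {W : X.Opens} (hW : IsAffineOpen W) (hWV : W ≤ f ⁻¹ᵁ V₀) :
    ∃ V : Y.Opens, genericPoint Y ∈ V ∧ ∀ y ∈ V, y ∈ V₀ → ∀ z : f.fiber y, f.fiberι y z ∈ W →
      ∃ (R : CommRingCat.{u}) (j : Spec R ⟶ f.fiber y) (_ : IsOpenImmersion j),
        z ∈ Set.range j ∧ IsSchemeTheoreticallyDominant (j ⁻¹ᵁ (f.fiberι y ⁻¹ᵁ U)).ι := by
  classical
  by_cases hη : genericPoint Y ∈ V₀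
  swap
  · refine ⟨⊤, trivial, fun y _ hyV => absurd ((genericPoint_specializes y).mem_open V₀.2 hyV) hη⟩
  let A := Γ(Y, V₀)
  let B := Γ(X, W)
  letI : Algebra A B := (f.appLE V₀ W hWV).hom.toAlgebra
  haveI : Algebra.FiniteType A B :=
    HasRingHomProperty.appLE (P := @LocallyOfFiniteType) f inferInstance ⟨V₀, hV₀⟩ ⟨W, hW⟩ hWV
  let q := hV₀.primeIdealOf ⟨genericPoint Y, hη⟩
  have hq : hV₀.fromSpec q = genericPoint Y := hV₀.fromSpec_primeIdealOf ⟨genericPoint Y, hη⟩
  have mk : ∀ p : PrimeSpectrum A, ∃ (K : Type u) (_ : Field K) (_ : Algebra A K)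
      (c : SchDom.Chart f (Y.fromSpecResidueField (hV₀.fromSpec p)) A B K),
      RingHom.ker (algebraMap A K) = p.asIdeal ∧ c.uB = hW.fromSpec ∧ Set.range c.uA' = Set.univ := by
    intro p
    obtain ⟨ψ, hψ, hker⟩ := SchDom.exists_fibre_point hV₀.fromSpec p.asIdeal
    letI : Algebra A (Y.residueField (hV₀.fromSpec p)) := ψ.hom.toAlgebra
    exact ⟨Y.residueField (hV₀.fromSpec p), inferInstance, inferInstance,
      { uA := hV₀.fromSpec, uB := hW.fromSpec, uA' := 𝟙 _
        openA := inferInstance, openB := inferInstance, openA' := inferInstance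
        wB := hV₀.SpecMap_appLE_fromSpec f hW hWV
        wA' := by rw [Category.id_comp]; exact hψ }, hker, rfl, Set.range_id⟩
  obtain ⟨K₀, _, _, c₀, hker₀, hB₀, -⟩ := mk q
  have hdom₀ : IsSchemeTheoreticallyDominant (f.fiberι (hV₀.fromSpec q) ⁻¹ᵁ U).ι := by rw [hq]; exact hdom
  haveI : IsLocallyNoetherian (f.fiber (hV₀.fromSpec q)) :=
    haveI : LocallyOfFiniteType (f.fiberToSpecResidueField (hV₀.fromSpec q)) :=
      MorphismProperty.pullback_snd (P := @LocallyOfFiniteType) _ _ inferInstance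
    LocallyOfFiniteType.isLocallyNoetherian (f.fiberToSpecResidueField _)
  let O₀ : (Spec (CommRingCat.of (B ⊗[A] K₀))).Opens := c₀.j ⁻¹ᵁ (f.fiberι (hV₀.fromSpec q) ⁻¹ᵁ U)
  haveI : QuasiCompact (f.fiberι (hV₀.fromSpec q) ⁻¹ᵁ U).ι := inferInstance
  haveI : IsSchemeTheoreticallyDominant O₀.ι :=
    IsSchemeTheoreticallyDominant.of_isPullback (f := (f.fiberι (hV₀.fromSpec q) ⁻¹ᵁ U).ι) (g := c₀.j)
      (isPullback_morphismRestrict c₀.j _)
  haveI : QuasiCompact O₀.ι :=
    MorphismProperty.of_isPullback (P := @QuasiCompact) (isPullback_morphismRestrict c₀.j _) inferInstance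
  haveI : IsNoetherianRing (B ⊗[A] K₀) :=
    haveI : IsNoetherianRing (K₀ ⊗[A] B) := Algebra.FiniteType.isNoetherianRing K₀ _
    isNoetherianRing_of_ringEquiv (K₀ ⊗[A] B) (Algebra.TensorProduct.comm A K₀ B).toRingEquiv
  let Zc : Set (PrimeSpectrum B) := (hW.fromSpec ⁻¹' (U : Set X))ᶜ
  let I : Ideal B := PrimeSpectrum.vanishingIdeal Zc
  have hZc : PrimeSpectrum.zeroLocus (I : Set B) = Zc := by
    rw [PrimeSpectrum.zeroLocus_vanishingIdeal_eq_closure]
    exact (U.2.preimage hW.fromSpec.continuous).isClosed_compl.closure_eq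
  let ι₀ : B →+* B ⊗[A] K₀ := Algebra.TensorProduct.includeLeftRingHom
  obtain ⟨s, hsI, hs⟩ : ∃ s : Finset B, ↑s ⊆ (I : Set B) ∧ I.map ι₀ = Ideal.span (ι₀ '' (s : Set B)) := by
    obtain ⟨t, ht, hspan⟩ := Submodule.fg_span_iff_fg_span_finset_subset (R := B ⊗[A] K₀) (ι₀ '' (I : Set B)) |>.1
      (IsNoetherian.noetherian _)
    obtain ⟨s, hs1, rfl⟩ := Finset.subset_set_image_iff.1 ht
    exact ⟨s, hs1, by rw [Ideal.map, Ideal.span, hspan, Finset.coe_image]⟩
  let g : Fin s.card → B := fun i => (s.equivFin.symm i).1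
  have hgle : ∀ (i) (z : PrimeSpectrum B), z ∈ PrimeSpectrum.basicOpen (g i) → hW.fromSpec z ∈ U := by
    intro i z hz
    by_contra hzU
    have : z ∈ PrimeSpectrum.zeroLocus (I : Set B) := by rw [hZc]; exact hzU
    exact hz ((PrimeSpectrum.mem_zeroLocus _ _).1 this (hsI (s.equivFin.symm i).2))
  have hfst : ∀ {K : Type u} [Field K] [Algebra A K] {p : PrimeSpectrum A}
      (c : SchDom.Chart f (Y.fromSpecResidueField (hV₀.fromSpec p)) A B K), c.uB = hW.fromSpec →
      ∀ w, f.fiberι (hV₀.fromSpec p) (c.j w) =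
        hW.fromSpec (PrimeSpectrum.comap (Algebra.TensorProduct.includeLeftRingHom (R := A) (A := B) (B := K)) w) := by
    intro K _ _ p c hc w
    show pullback.fst f _ (c.j w) = _
    rw [← Scheme.Hom.comp_apply, c.j_fst, hc, Scheme.Hom.comp_apply]
    rfl
  have hcov : O₀ ≤ ⨆ i, PrimeSpectrum.basicOpen (g i ⊗ₜ[A] (1 : K₀)) := by
    intro w hw
    have hwU : f.fiberι (hV₀.fromSpec q) (c₀.j w) ∈ U := hw
    rw [hfst c₀ hB₀] at hwU
    have hnot : ¬ I.map ι₀ ≤ w.asIdeal := by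
      intro hle
      have : PrimeSpectrum.comap ι₀ w ∈ PrimeSpectrum.zeroLocus (I : Set B) :=
        (PrimeSpectrum.mem_zeroLocus _ _).2 (Ideal.map_le_iff_le_comap.1 hle)
      rw [hZc] at this
      exact this hwU
    rw [hs, Ideal.span_le, Set.not_subset] at hnot
    obtain ⟨_, ⟨b, hb, rfl⟩, hbw⟩ := hnot
    refine Opens.mem_iSup.2 ⟨s.equivFin ⟨b, hb⟩, ?_⟩
    have hgi : g (s.equivFin ⟨b, hb⟩) = b := by simp [g]
    show g (s.equivFin ⟨b, hb⟩) ⊗ₜ[A] (1 : K₀) ∉ w.asIdeal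
    rw [hgi]; exact hbw
  obtain ⟨h, hh, hspread⟩ := exists_spread q.asIdeal g K₀ hker₀ (inj_spec O₀ _ hcov)
  refine ⟨Y.basicOpen h, ?_, fun y hy hyV => ?_⟩
  · have : q ∈ hV₀.fromSpec ⁻¹ᵁ Y.basicOpen h := by rw [hV₀.fromSpec_preimage_basicOpen]; exact hh
    exact hq ▸ this
  obtain ⟨p, rfl⟩ : ∃ p, hV₀.fromSpec p = y := hV₀.range_fromSpec.symm.subset hyV
  obtain ⟨K, _, _, c, hker, hB, hA'⟩ := mk p
  intro z hz
  have hzj : z ∈ Set.range c.j := by
    rw [c.range_j, hB, hA']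
    exact ⟨hW.range_fromSpec.symm.subset hz, trivial⟩
  refine ⟨CommRingCat.of (B ⊗[A] K), c.j, inferInstance, hzj, std_spec _ (fun i => g i ⊗ₜ[A] (1 : K)) ?_ ?_⟩
  · intro i w hw
    show f.fiberι (hV₀.fromSpec p) (c.j w) ∈ U
    rw [hfst c hB]
    exact hgle i _ hw
  · have hpy : p ∈ hV₀.fromSpec ⁻¹ᵁ Y.basicOpen h := hy
    rw [hV₀.fromSpec_preimage_basicOpen] at hpy
    refine hspread K ?_ fun e => hpy (hker ▸ RingHom.mem_ker.2 e)
    rw [hker]
    have hsp : q ⤳ p := hV₀.fromSpec.isOpenEmbedding.isInducing.specializes_iff.1 (by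
      rw [hq]; exact genericPoint_specializes _)
    exact (PrimeSpectrum.le_iff_specializes _ _).2 hsp

theorem main [IrreducibleSpace Y] [LocallyOfFiniteType f] [QuasiCompact f]
    (hdom : IsSchemeTheoreticallyDominant (f.fiberι (genericPoint Y) ⁻¹ᵁ U).ι) :
    ∃ V : Y.Opens, (V : Set Y).Nonempty ∧ ∀ y ∈ V, IsSchemeTheoreticallyDominant (f.fiberι y ⁻¹ᵁ U).ι := by
  classical
  obtain ⟨_, ⟨V₀, hV₀, rfl⟩, hη, -⟩ :=
    Y.isBasis_affineOpens.exists_subset_of_mem_open (Set.mem_univ (genericPoint Y)) isOpen_univ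
  obtain ⟨t, ht⟩ := (f.isCompact_preimage hV₀.isCompact).elim_finite_subcover
    (fun W : {W : X.affineOpens // W.1 ≤ f ⁻¹ᵁ V₀} => (W.1.1 : Set X)) (fun W => W.1.1.2) fun x hx => by
      obtain ⟨_, ⟨W, hW, rfl⟩, hxW, hWV⟩ :=
        X.isBasis_affineOpens.exists_subset_of_mem_open hx (f ⁻¹ᵁ V₀).2
      exact Set.mem_iUnion.2 ⟨⟨⟨W, hW⟩, hWV⟩, hxW⟩
  choose V hV hVspec using fun W : {W : X.affineOpens // W.1 ≤ f ⁻¹ᵁ V₀} => exists_chart_spread f U hdom hV₀ W.1.2 W.2
  let Vt : Y.Opens := ⟨⋂ W ∈ t, (V W : Set Y), isOpen_biInter_finset fun W _ => (V W).2⟩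
  refine ⟨V₀ ⊓ Vt, ⟨genericPoint Y, hη, Set.mem_iInter₂.2 fun W _ => hV W⟩, fun y hy => std_of_cover _ fun z => ?_⟩
  have hzV : f.fiberι y z ∈ (f ⁻¹ᵁ V₀ : Set X) := by
    show f (f.fiberι y z) ∈ V₀
    have : f.fiberι y z ∈ Set.range (f.fiberι y) := ⟨z, rfl⟩
    rw [f.range_fiberι] at this
    rw [show f (f.fiberι y z) = y from this]
    exact hy.1
  obtain ⟨W, hWt, hzW⟩ := Set.mem_iUnion₂.1 (ht hzV)
  exact hVspec W y (Set.mem_iInter₂.1 hy.2 W hWt) hy.1 z hzW

end Groth.Agent.StdFib4
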